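import Cfsg.Agent.TICent.Even
import Cfsg.Agent.S2202
import Cfsg.Agent.InvChar.OneSixtyEight
import Cfsg.Agent.SelfNormNonab.PSL

/-!
# Groups with TI element centralisers: assembling
-/

set_option autoImplicit false

namespace CfsgLib.TICent

open Subgroup

universe u

variable {G : Type u} [Group G] [Finite G]

/-- A quaternion Frobenius complement has order eight. -/
theorem quaternion_le_eight (hTI : AllTI G) {Q : Subgroup G} {n : ℕ}
    (e : Q ≃* QuaternionGroup (2 ^ n)) : n ≤ 1 := by
  by_contra hn
  push Not at hn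
  set M := 2 ^ n with hM
  have hM4 : 4 ≤ M := le_trans (by norm_num) (Nat.pow_le_pow_right two_pos hn)
  haveI : NeZero M := ⟨by omega⟩
  set a : G := ((e.symm (QuaternionGroup.a (1 : ZMod (2 * M))) : Q) : G) with ha
  set b : G := ((e.symm (QuaternionGroup.xa (0 : ZMod (2 * M))) : Q) : G) with hb
  set c : G := ((e.symm (QuaternionGroup.a (M : ZMod (2 * M))) : Q) : G) with hc
  have hMM : ((M : ZMod (2 * M)) + M) = 0 := by
    rw [← Nat.cast_add, ← two_mul]; exact ZMod.natCast_self _
  have hcomm : ∀ x : QuaternionGroup M, x * QuaternionGroup.a (M : ZMod (2 * M)) =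
      QuaternionGroup.a (M : ZMod (2 * M)) * x := by
    rintro (i | i)
    · rw [QuaternionGroup.a_mul_a, QuaternionGroup.a_mul_a, add_comm]
    · rw [QuaternionGroup.xa_mul_a, QuaternionGroup.a_mul_xa]
      congr 1
      calc i + (M : ZMod (2 * M)) = i + M - (M + M) := by rw [hMM, sub_zero]
        _ = i - M := by ring
  have hcx : ∀ x : QuaternionGroup M, ((e.symm x : Q) : G) * c = c * ((e.symm x : Q) : G) := by
    intro x
    rw [hc, ← Subgroup.coe_mul, ← Subgroup.coe_mul, ← map_mul, ← map_mul, hcomm]
  have hc1 : c ≠ 1 := by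
    intro h
    have h1 : e.symm (QuaternionGroup.a (M : ZMod (2 * M))) = 1 := Subtype.ext h
    rw [map_eq_one_iff e.symm e.symm.injective, QuaternionGroup.one_def] at h1
    have h2 := QuaternionGroup.a.inj h1
    rw [ZMod.natCast_eq_zero_iff] at h2
    have := Nat.le_of_dvd (by omega) h2
    omega
  have hcb : c ∈ centralizer ({b} : Set G) := mem_centralizer_singleton_iff.2 (hcx _).symm
  have ha' : a * c * a⁻¹ ∈ centralizer ({b} : Set G) := by
    rw [ha, hcx, mul_inv_cancel_right]; exact hcb
  have hn' := mem_normalizer hTI hcb hc1 ha'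
  have h1 := (mem_normalizer_iff.1 hn' b).1 (mem_centralizer_singleton_iff.2 rfl)
  rw [mem_centralizer_singleton_iff, ha, hb] at h1
  rw [← Subgroup.coe_inv, ← Subgroup.coe_mul, ← Subgroup.coe_mul, ← Subgroup.coe_mul, ← Subgroup.coe_mul,
    ← map_inv, ← map_mul, ← map_mul, ← map_mul, ← map_mul] at h1
  have h2 := e.symm.injective (Subtype.ext h1)
  have hinv : (QuaternionGroup.a (1 : ZMod (2 * M)))⁻¹ = QuaternionGroup.a (-1) := by
    apply inv_eq_of_mul_eq_one_right
    rw [QuaternionGroup.a_mul_a, add_neg_cancel, QuaternionGroup.one_def]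
  rw [hinv, QuaternionGroup.a_mul_xa, QuaternionGroup.xa_mul_a, QuaternionGroup.xa_mul_xa,
    QuaternionGroup.xa_mul_xa] at h2
  have h3 := QuaternionGroup.a.inj h2
  have h4 : ((4 : ℕ) : ZMod (2 * M)) = 0 := by
    push_cast
    linear_combination h3
  rw [ZMod.natCast_eq_zero_iff] at h4
  have := Nat.le_of_dvd (by norm_num) h4
  omega

/-- Commuting subgroups of coprime orders generating the group are complements. -/
theorem isComplement'_of_coprime_sup {E : Type*} [Group E] [Finite E] (C Q : Subgroup E) (hsup : C ⊔ Q = ⊤)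
    (hcomm : ∀ a ∈ C, ∀ b ∈ Q, a * b = b * a) (hcop : (Nat.card C).Coprime (Nat.card Q)) :
    IsComplement' C Q := by
  have hle : Q ≤ normalizer (C : Set E) := by
    intro b hb
    rw [mem_normalizer_iff]
    intro a
    constructor
    · intro ha
      rwa [← hcomm a ha b hb, mul_inv_cancel_right]
    · intro ha
      have h := hcomm _ ha b hb
      have : b * a * b⁻¹ = a := by
        have h2 : b * a = b * (b * a * b⁻¹) := by rw [← h]; group
        exact (mul_left_cancel h2).symm
      rwa [this] at ha
  refine isComplement'_of_disjoint_and_mul_eq_univ (disjoint_iff.2 (inf_eq_bot_of_coprime hcop)) ?_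
  rw [← coe_mul_of_right_le_normalizer_left C Q hle, hsup, coe_top]

/-- A cyclic group of odd order times a cyclic 2-group is cyclic. -/
theorem isCyclic_of_sup {E : Type*} [Group E] [Finite E] (C Q : Subgroup E) (hsup : C ⊔ Q = ⊤)
    (hcomm : ∀ a ∈ C, ∀ b ∈ Q, a * b = b * a) (hcop : (Nat.card C).Coprime (Nat.card Q))
    [IsCyclic C] [IsCyclic Q] : IsCyclic E := by
  obtain ⟨c, hc⟩ := IsCyclic.exists_generator (α := C)
  obtain ⟨q, hq⟩ := IsCyclic.exists_generator (α := Q)
  have hcc : Commute (c : E) q := hcomm c c.2 q q.2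
  refine ⟨⟨(c : E) * q, fun x => ?_⟩⟩
  have hord : orderOf ((c : E) * q) = Nat.card C * Nat.card Q := by
    rw [hcc.orderOf_mul_eq_mul_orderOf_of_coprime]
    · rw [orderOf_coe, orderOf_coe, orderOf_eq_card_of_forall_mem_zpowers hc,
        orderOf_eq_card_of_forall_mem_zpowers hq]
    · rw [orderOf_coe, orderOf_coe, orderOf_eq_card_of_forall_mem_zpowers hc,
        orderOf_eq_card_of_forall_mem_zpowers hq]
      exact hcop
  have hcE : Nat.card C * Nat.card Q = Nat.card E :=
    (isComplement'_of_coprime_sup C Q hsup hcomm hcop).card_mul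
  have htop : zpowers ((c : E) * q) = ⊤ :=
    (Subgroup.card_eq_iff_eq_top _).1 (by rw [Nat.card_zpowers, hord, hcE])
  show x ∈ zpowers ((c : E) * q)
  rw [htop]
  exact mem_top x

/-- The main theorem. -/
theorem structure_theorem (hTI : AllTI G) :
    Group.IsNilpotent G ∨
    (∃ H : Subgroup G, Cfsg.IsFrobeniusComplement H ∧
      (IsCyclic H ∨ ∃ m : ℕ, Odd m ∧ Nonempty (H ≃* Multiplicative (ZMod m) × QuaternionGroup 2))) ∨
    (∃ n : ℕ, 2 ≤ n ∧ Nonempty (G ≃* Matrix.ProjectiveSpecialLinearGroup (Fin 2) (GaloisField 2 n))) := by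
  classical
  by_cases hnn : Group.IsNilpotent G
  · exact Or.inl hnn
  right
  have hZ : center G = ⊥ := by
    by_contra h
    exact hnn (nilpotent_of_center hTI h)
  haveI : Nontrivial G := not_subsingleton_iff_nontrivial.1 fun hs => hnn inferInstance
  have hCN := isCN hTI
  by_cases hs : Group.IsSolvable G
  · left
    obtain ⟨p, hp, P, hPn, hP1⟩ := exists_normal_sylow hTI
    obtain ⟨-, -, E, -, hF, -, hnt, φ, hφ⟩ := CfsgLib.CN.Solvable.frobenius hCN hnn P hP1 hPn
    refine ⟨E, hF, ?_⟩
    rcases CfsgLib.CN.Solvable.cyclic_or_prod (CfsgLib.CN.isCNGroup_subgroup hCN E) hφ with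
      h | ⟨C, Q, hsup, hcomm, hcy, hodd, n, ⟨e⟩⟩
    · exact Or.inl h
    have hcop : (Nat.card C).Coprime (Nat.card Q) := by
      haveI : NeZero (2 ^ n) := ⟨Nat.two_pow_pos n |>.ne'⟩
      rw [Nat.card_congr e.toEquiv, Nat.card_eq_fintype_card (α := QuaternionGroup (2 ^ n)), QuaternionGroup.card,
        show 4 * 2 ^ n = 2 ^ (n + 2) by ring]
      exact (Nat.coprime_two_right.2 hodd).pow_right _
    have hn : n ≤ 1 := quaternion_le_eight hTI
      ((Q.equivMapOfInjective E.subtype E.subtype_injective).symm.trans e)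
    rcases (show n = 0 ∨ n = 1 by omega) with rfl | rfl
    · left
      haveI := hcy
      haveI : IsCyclic (QuaternionGroup (2 ^ 0)) := QuaternionGroup.quaternionGroup_one_isCyclic
      haveI : IsCyclic Q := isCyclic_of_surjective _ e.symm.surjective
      exact isCyclic_of_sup C Q hsup hcomm hcop
    · right
      refine ⟨Nat.card C, hodd, ⟨?_⟩⟩
      haveI := hcy
      have hcompl := isComplement'_of_coprime_sup C Q hsup hcomm hcop
      let f : C × Q →* E :=
        { toFun := fun x => (x.1 : E) * x.2
          map_one' := by simp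
          map_mul' := fun x y => by
            show ((x.1 : E) * y.1) * ((x.2 : E) * y.2) = (x.1 : E) * x.2 * ((y.1 : E) * y.2)
            calc ((x.1 : E) * y.1) * ((x.2 : E) * y.2) = (x.1 : E) * ((y.1 : E) * x.2) * y.2 := by group
              _ = (x.1 : E) * ((x.2 : E) * y.1) * y.2 := by rw [hcomm y.1 y.1.2 x.2 x.2.2]
              _ = (x.1 : E) * x.2 * ((y.1 : E) * y.2) := by group }
      let g : C × Q ≃* E := MulEquiv.ofBijective f hcompl
      exact g.symm.trans (MulEquiv.prodCongr (zmodCyclicMulEquiv hcy).symm e)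
  · right
    obtain ⟨hab, hncyc, hnn2⟩ := abelian_centralizers hTI hs
    have heven : Even (Nat.card G) := by
      rw [← Nat.not_odd_iff_even]
      exact fun h => hs (Cfsg.Agent.S0183.result h hCN)
    rcases Cfsg.Agent.S2202.result heven hab with h | h | ⟨F, iF, iFt, A, iA, iAf, hchar, hodd, ⟨eG⟩⟩
    · obtain ⟨P⟩ : Nonempty (Sylow 2 G) := inferInstance
      exact absurd (h P) (hncyc P)
    · obtain ⟨P⟩ : Nonempty (Sylow 2 G) := inferInstance
      exact absurd (h P) (hnn2 P)
    haveI : Subsingleton A := by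
      refine ⟨fun x y => ?_⟩
      have key : ∀ w : A, w = 1 := by
        intro w
        have hmem : eG.symm (1, w) ∈ center G := by
          rw [mem_center_iff]
          intro g
          obtain ⟨⟨s, v⟩, rfl⟩ := eG.symm.surjective g
          rw [← map_mul, ← map_mul]
          simp [mul_comm v w]
        rw [hZ, mem_bot, map_eq_one_iff eG.symm eG.symm.injective] at hmem
        exact congrArg Prod.snd hmem
      rw [key x, key y]
    haveI : Unique A := uniqueOfSubsingleton 1
    haveI := hchar
    obtain ⟨n, hn2, hn⟩ := FiniteField.card F 2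
    have hSL : Nonempty (Matrix.SpecialLinearGroup (Fin 2) F ≃* Matrix.ProjectiveSpecialLinearGroup (Fin 2) F) := by
      have hc : center (Matrix.SpecialLinearGroup (Fin 2) F) = ⊥ := by
        rw [eq_bot_iff]
        intro x hx
        rw [Matrix.SpecialLinearGroup.mem_center_iff] at hx
        obtain ⟨r, hr, hrx⟩ := hx
        rw [Fintype.card_fin] at hr
        have h1 : r = 1 := by
          have : (r + 1) ^ 2 = 0 := by
            rw [CharTwo.add_sq, one_pow, hr, CharTwo.add_self_eq_zero]
          have h2 := pow_eq_zero_iff (n := 2) (by norm_num) |>.1 this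
          exact CharTwo.add_eq_zero.1 h2
        rw [mem_bot]
        apply Subtype.ext
        rw [← hrx, h1]; simp
      exact ⟨((QuotientGroup.quotientMulEquivOfEq hc).trans QuotientGroup.quotientBot).symm⟩
    obtain ⟨eSL⟩ := hSL
    have hn2' : 2 ≤ (n : ℕ) := by
      by_contra hlt
      have h1 : (n : ℕ) = 1 := by have := n.pos; omega
      apply hs
      rw [h1, pow_one] at hn
      have h6 : Nat.card G = 6 := by
        rw [Nat.card_congr eG.toEquiv, Nat.card_prod, Nat.card_unique (α := A), mul_one]
        rw [Nat.card_congr eSL.toEquiv, CfsgLib.Linear.PSLTwo.card_eq, Nat.card_eq_fintype_card, hn]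
        norm_num
      haveI : Fact (Nat.Prime 3) := ⟨Nat.prime_three⟩
      obtain ⟨x, hx⟩ := exists_prime_orderOf_dvd_card' (G := G) 3 (by rw [h6]; norm_num)
      have hi : (zpowers x).index = 2 := by
        have := (zpowers x).index_mul_card
        rw [Nat.card_zpowers, hx, h6] at this
        omega
      haveI := Subgroup.normal_of_index_eq_two hi
      haveI : Group.IsSolvable (G ⧸ zpowers x) := by
        haveI : IsCyclic (G ⧸ zpowers x) :=
          isCyclic_of_prime_card (p := 2) (by rw [← index_eq_card, hi])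
        letI := IsCyclic.commGroup (α := G ⧸ zpowers x)
        infer_instance
      haveI : Group.IsSolvable (zpowers x) := by
        letI := IsCyclic.commGroup (α := zpowers x)
        infer_instance
      exact Group.isSolvable_of_ker_le_range (zpowers x).subtype (QuotientGroup.mk' (zpowers x))
        (by rw [QuotientGroup.ker_mk', range_subtype])
    haveI := Fintype.ofFinite (GaloisField 2 (n : ℕ))
    obtain ⟨g⟩ := CfsgLib.InvChar.psl_congr (FiniteField.ringEquivOfCardEq
      (show Fintype.card F = Fintype.card (GaloisField 2 (n : ℕ)) by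
        rw [hn, ← Nat.card_eq_fintype_card, GaloisField.card 2 _ (by omega)]))
    exact ⟨n, hn2', ⟨(eG.trans MulEquiv.prodUnique).trans (eSL.trans g)⟩⟩

end CfsgLib.TICent
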