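import Cfsg.Agent.OddLocal.CNSolvable
import Cfsg.Prelude.Def_OddOrderLocal
import Cfsg.Agent.Kinf.SolvableSCN
import Cfsg.Agent.Solvable.PGroupBasic

/-!
# Groups in which all element centralisers are TI-subsets: basic facts and the solvable case
-/

set_option autoImplicit false

namespace CfsgLib.TICent

open Subgroup

universe u

variable {G : Type u} [Group G]

/-- All element centralisers are TI-subsets. -/
def AllTI (G : Type u) [Group G] : Prop :=
  ∀ x : G, Cfsg.IsTISubset (Subgroup.centralizer ({x} : Set G) : Set G)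

/-- An element moving a nontrivial element of `C(x)` into `C(x)` normalises `C(x)`. -/
theorem mem_normalizer (hTI : AllTI G) {x g w : G} (hw : w ∈ centralizer ({x} : Set G)) (hw1 : w ≠ 1)
    (hgw : g * w * g⁻¹ ∈ centralizer ({x} : Set G)) :
    g ∈ normalizer (centralizer ({x} : Set G) : Set G) := by
  by_contra hg
  exact hw1 (hTI x g hg w hw hgw)

/-- Centralisers of nontrivial elements of `C(x)` normalise `C(x)`. -/
theorem centralizer_le (hTI : AllTI G) {x y : G} (hy : y ∈ centralizer ({x} : Set G)) (hy1 : y ≠ 1) :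
    centralizer ({y} : Set G) ≤ normalizer (centralizer ({x} : Set G) : Set G) := by
  intro g hg
  refine mem_normalizer hTI hy hy1 ?_
  rwa [mem_centralizer_singleton_iff.1 hg, mul_inv_cancel_right]

/-- A finite group in which every centraliser is normal is nilpotent. -/
theorem nilpotent_of_normal_centralizers {K : Type*} [Group K] [Finite K]
    (h : ∀ y : K, (centralizer ({y} : Set K)).Normal) : Group.IsNilpotent K := by
  have hcl : ∀ y g : K, Commute (g * y * g⁻¹) y := by
    intro y g
    have hy : y ∈ centralizer ({y} : Set K) := mem_centralizer_singleton_iff.2 rfl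
    exact mem_centralizer_singleton_iff.1 ((h y).conj_mem y hy g)
  have hmem : ∀ y : K, y ∈ Cfsg.fittingSubgroup K := by
    intro y
    have hab : IsMulCommutative (normalClosure ({y} : Set K)) := by
      have hle : normalClosure ({y} : Set K) ≤ centralizer (normalClosure ({y} : Set K) : Set K) := by
        rw [normalClosure, closure_le]
        intro a ha
        rw [SetLike.mem_coe, ← zpowers_le]
        intro a' ha'
        rw [mem_centralizer_iff]
        intro b hb
        obtain ⟨i, rfl⟩ := mem_zpowers_iff.1 ha'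
        have hb' : b ∈ centralizer ({a} : Set K) := by
          revert b
          show (normalClosure ({y} : Set K) : Set K) ⊆ (centralizer ({a} : Set K) : Set K)
          rw [normalClosure, SetLike.coe_subset_coe, closure_le]
          intro b hb
          rw [SetLike.mem_coe, mem_centralizer_singleton_iff]
          obtain ⟨y₁, hy₁, hc⟩ := Group.mem_conjugatesOfSet_iff.1 ha
          obtain ⟨y₂, hy₂, hd⟩ := Group.mem_conjugatesOfSet_iff.1 hb
          rw [Set.mem_singleton_iff] at hy₁ hy₂
          subst hy₁; subst hy₂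
          obtain ⟨c, rfl⟩ := isConj_iff.1 hc
          obtain ⟨d, rfl⟩ := isConj_iff.1 hd
          have hk := (hcl y₂ (c⁻¹ * d)).map (MulAut.conj c).toMonoidHom
          simp only [MulEquiv.toMonoidHom_eq_coe, MonoidHom.coe_coe, MulAut.conj_apply] at hk
          rw [show c * (c⁻¹ * d * y₂ * (c⁻¹ * d)⁻¹) * c⁻¹ = d * y₂ * d⁻¹ by group] at hk
          exact hk.eq
        exact (Commute.zpow_right (mem_centralizer_singleton_iff.1 hb' : Commute b a) i).eq
      exact ⟨⟨fun a b => Subtype.ext (mem_centralizer_iff.1 (hle b.2) a a.2)⟩⟩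
    refine CfsgLib.Solvable.le_fittingSubgroup (N := normalClosure ({y} : Set K)) normalClosure_normal ?_ (subset_normalClosure (Set.mem_singleton y))
    letI : CommGroup (normalClosure ({y} : Set K)) :=
      { (inferInstance : Group (normalClosure ({y} : Set K))) with mul_comm := fun a b => hab.is_comm.comm a b }
    infer_instance
  have h2 : (⊤ : Subgroup K) ≤ Cfsg.fittingSubgroup K := fun y _ => hmem y
  haveI := CfsgLib.CN.nilpotent_of_le CfsgLib.Solvable.isNilpotent_fittingSubgroup h2
  exact Group.nilpotent_of_surjective (topEquiv : (⊤ : Subgroup K) ≃* K).toMonoidHom (MulEquiv.surjective _)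

variable [Finite G]

/-- Centralisers of nontrivial elements are nilpotent. -/
theorem isCN (hTI : AllTI G) : Cfsg.IsCNGroup G := by
  intro x hx
  refine nilpotent_of_normal_centralizers fun y => ?_
  refine ⟨fun w hw a => ?_⟩
  have hxy : x ∈ centralizer ({(y : G)} : Set G) :=
    mem_centralizer_singleton_iff.2 (mem_centralizer_singleton_iff.1 y.2).symm
  have ha := mem_normalizer hTI (g := (a : G)) hxy hx (by
    rw [show (a : G) * x * (a : G)⁻¹ = x by rw [mem_centralizer_singleton_iff.1 a.2, mul_inv_cancel_right]]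
    exact hxy)
  rw [mem_centralizer_singleton_iff] at hw ⊢
  have hw' : (w : G) ∈ centralizer ({(y : G)} : Set G) :=
    mem_centralizer_singleton_iff.2 (by exact_mod_cast congrArg Subtype.val hw)
  have h3 := (Subgroup.mem_normalizer_iff.1 ha _).1 hw'
  exact Subtype.ext (mem_centralizer_singleton_iff.1 h3)

/-- With a nontrivial centre the group is nilpotent. -/
theorem nilpotent_of_center (hTI : AllTI G) (hZ : center G ≠ ⊥) : Group.IsNilpotent G := by
  obtain ⟨z, hz, hz1⟩ := (center G).bot_or_exists_ne_one.resolve_left hZ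
  refine nilpotent_of_normal_centralizers fun y => ?_
  rw [← normalizer_eq_top_iff, eq_top_iff]
  intro g _
  have hzy : z ∈ centralizer ({y} : Set G) :=
    mem_centralizer_singleton_iff.2 (mem_center_iff.1 hz y).symm
  refine mem_normalizer hTI hzy hz1 ?_
  rwa [mem_center_iff.1 hz g, mul_inv_cancel_right]

/-- Solvable groups with TI centralisers and trivial centre have a nontrivial normal Sylow subgroup. -/
theorem exists_normal_sylow [Nontrivial G] [Group.IsSolvable G] (hTI : AllTI G) :
    ∃ (p : ℕ) (_ : Fact p.Prime) (P : Sylow p G), (P : Subgroup G).Normal ∧ (P : Subgroup G) ≠ ⊥ := by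
  set F := Cfsg.fittingSubgroup G with hF
  haveI hFn : F.Normal := CfsgLib.Solvable.fittingSubgroup_normal
  haveI : Group.IsNilpotent F := CfsgLib.Solvable.isNilpotent_fittingSubgroup
  have hCF : centralizer (F : Set G) ≤ F := CfsgLib.Fitting.centralizer_fittingSubgroup_le_of_solvable
  have hF1 : F ≠ ⊥ := by
    intro h
    have h' : centralizer (F : Set G) = ⊤ := by
      rw [h, eq_top_iff]
      intro g _
      refine mem_centralizer_iff.2 fun b hb => ?_
      rw [SetLike.mem_coe, mem_bot] at hb
      rw [hb, one_mul, mul_one]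
    rw [h', h] at hCF
    exact top_ne_bot (le_bot_iff.1 hCF)
  haveI : Nontrivial F := (nontrivial_iff_ne_bot _).2 hF1
  obtain ⟨z, ⟨-, hzc⟩, hz1'⟩ := (Subgroup.bot_or_exists_ne_one _).resolve_left
    (CfsgLib.PGroupBasic.inf_center_ne_bot (⊤ : Subgroup F) top_ne_bot)
  have hz1 : (z : G) ≠ 1 := fun h => hz1' (Subtype.ext h)
  have hzF : ∀ f ∈ F, f * (z : G) = (z : G) * f := fun f hf =>
    congrArg Subtype.val (mem_center_iff.1 hzc ⟨f, hf⟩)
  have hC : ∀ y ∈ F, y ≠ 1 → centralizer ({y} : Set G) ≤ F := by
    intro y hy hy1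
    refine CfsgLib.Solvable.le_fittingSubgroup ?_ (isCN hTI y hy1)
    rw [← normalizer_eq_top_iff, eq_top_iff]
    intro g _
    have hzy : (z : G) ∈ centralizer ({y} : Set G) := mem_centralizer_singleton_iff.2 (hzF y hy).symm
    refine mem_normalizer hTI hzy hz1 ?_
    have h1 := hFn.conj_mem y hy g⁻¹
    rw [inv_inv] at h1
    rw [mem_centralizer_singleton_iff]
    calc g * (z : G) * g⁻¹ * y = g * ((z : G) * (g⁻¹ * y * g)) * g⁻¹ := by group
      _ = g * ((g⁻¹ * y * g) * (z : G)) * g⁻¹ := by rw [hzF _ h1]
      _ = y * (g * (z : G) * g⁻¹) := by group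
  obtain ⟨r, hr, hrd⟩ := Nat.exists_prime_and_dvd (n := Nat.card F)
    (fun h => hF1 (card_eq_one.1 h))
  haveI := Fact.mk hr
  obtain ⟨R₀⟩ : Nonempty (Sylow r F) := inferInstance
  obtain ⟨R, hR⟩ := (R₀.2.map F.subtype).exists_le_sylow
  haveI hR₀n : (R₀ : Subgroup F).Normal :=
    R₀.normal_of_normalizerCondition Group.normalizerCondition_of_isNilpotent
  haveI : (R₀ : Subgroup F).Characteristic := R₀.characteristic_of_normal hR₀n
  haveI : ((R₀ : Subgroup F).map F.subtype).Normal := inferInstance
  have hne : (R₀ : Subgroup F).map F.subtype ≠ ⊥ := by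
    rw [Ne, map_eq_bot_iff_of_injective _ F.subtype_injective]
    exact fun h => R₀.ne_bot_of_dvd_card hrd h
  have hmeet : ((R₀ : Subgroup F).map F.subtype).subgroupOf (R : Subgroup G) ≠ ⊥ := by
    rw [Ne, subgroupOf_eq_bot, disjoint_iff, inf_eq_left.2 hR]
    exact hne
  obtain ⟨y, hy, hy1⟩ : ∃ y ∈ ((R₀ : Subgroup F).map F.subtype).subgroupOf (R : Subgroup G) ⊓ center R,
      y ≠ 1 := by
    haveI : Group.IsNilpotent R := R.2.isNilpotent
    have h := CfsgLib.PGroupBasic.inf_center_ne_bot _ hmeet
    exact (Subgroup.bot_or_exists_ne_one _).resolve_left h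
  have hyF : (y : G) ∈ F := map_subtype_le _ (mem_subgroupOf.1 hy.1)
  have hRF : (R : Subgroup G) ≤ F := fun a ha => hC _ hyF (fun h => hy1 (Subtype.ext h))
    (mem_centralizer_singleton_iff.2 (congrArg Subtype.val (mem_center_iff.1 hy.2 ⟨a, ha⟩)))
  have hnd : ¬ r ∣ F.index := fun h =>
    R.not_dvd_index (h.trans (index_dvd_of_le hRF))
  refine ⟨r, ⟨hr⟩, R, ?_, fun h => hne (le_bot_iff.1 (h ▸ hR))⟩
  have heq : (R : Subgroup G) = (R₀ : Subgroup F).map F.subtype := by
    refine (Subgroup.eq_of_le_of_card_ge hR ?_).symm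
    rw [card_map_of_injective F.subtype_injective, R.card_eq_multiplicity, R₀.card_eq_multiplicity]
    refine Nat.pow_le_pow_right hr.pos (le_of_eq ?_)
    rw [← F.card_mul_index, Nat.factorization_mul Nat.card_pos.ne' F.index_ne_zero_of_finite,
      Finsupp.add_apply, Nat.factorization_eq_zero_of_not_dvd hnd, add_zero]
  rw [heq]; infer_instance

end CfsgLib.TICent
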