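import Cfsg.Agent.TICent.Basic
import Cfsg.Agent.S0183
import Cfsg.Agent.S0001
import Cfsg.Agent.S0223
import Cfsg.Agent.S0338
import Cfsg.Agent.S0346
import Cfsg.Agent.S1147
import Cfsg.Agent.S1224
import Cfsg.Agent.S1225
import Cfsg.Agent.Solvable.FrobeniusConj

/-!
# Groups with TI element centralisers: the non-solvable case

The normaliser `N` of the centraliser `A` of a 2-central involution is strongly embedded, a
Frobenius group with kernel `A`, and `G` is a Zassenhaus group on the cosets of `N`; hence `A` is an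
abelian Sylow 2-subgroup.
-/

set_option autoImplicit false

namespace CfsgLib.TICent

open Subgroup
open scoped Pointwise

universe u

variable {G : Type u} [Group G] [Finite G]

omit [Finite G] in
/-- A fixed point free automorphism of a finite group moves elements outside their coset modulo a
stable central subgroup. -/
theorem not_mem_center_of_fpf {A : Type*} [Group A] [Finite A] (ψ : MulAut A)
    (hψ : ∀ a, ψ a = a → a = 1) {y z : A} (hz : z ∈ center A) (h : ψ y = y * z) : y ∈ center A := by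
  have hmap : ∀ w ∈ center A, ψ w ∈ center A := by
    intro w hw
    rw [mem_center_iff]
    intro a
    obtain ⟨b, rfl⟩ := ψ.surjective a
    rw [← map_mul, ← map_mul, mem_center_iff.1 hw b]
  let f : center A → center A := fun w => ⟨(w : A)⁻¹ * ψ w, mul_mem (inv_mem w.2) (hmap w w.2)⟩
  have hinj : Function.Injective f := by
    intro v w hvw
    have h' : (v : A)⁻¹ * ψ v = (w : A)⁻¹ * ψ w := congrArg Subtype.val hvw
    have hfix : ψ ((v : A) * (w : A)⁻¹) = (v : A) * (w : A)⁻¹ := by
      rw [map_mul, map_inv]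
      calc ψ (v : A) * (ψ (w : A))⁻¹ = (v : A) * ((v : A)⁻¹ * ψ v) * (ψ (w : A))⁻¹ := by group
        _ = (v : A) * ((w : A)⁻¹ * ψ w) * (ψ (w : A))⁻¹ := by rw [h']
        _ = (v : A) * (w : A)⁻¹ := by group
    exact Subtype.ext (mul_inv_eq_one.1 (hψ _ hfix))
  obtain ⟨w, hw⟩ := (Finite.injective_iff_surjective.1 hinj) ⟨z, hz⟩
  have hw' : (w : A)⁻¹ * ψ w = z := congrArg Subtype.val hw
  have hfix : ψ (y * (w : A)⁻¹) = y * (w : A)⁻¹ := by
    rw [map_mul, map_inv, h, ← hw']; group
  rw [mul_inv_eq_one.1 (hψ _ hfix)]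
  exact w.2

/-- An element of order two of a subgroup whose index in the whole is odd. -/
theorem exists_central_involution (heven : Even (Nat.card G)) :
    ∃ (S : Sylow 2 G) (z : G), orderOf z = 2 ∧ z ∈ (S : Subgroup G) ∧
      ∀ s ∈ (S : Subgroup G), s * z = z * s := by
  haveI : Fact (Nat.Prime 2) := ⟨Nat.prime_two⟩
  obtain ⟨S⟩ : Nonempty (Sylow 2 G) := inferInstance
  haveI : Nontrivial (S : Subgroup G) :=
    (nontrivial_iff_ne_bot _).2 (S.ne_bot_of_dvd_card (even_iff_two_dvd.1 heven))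
  haveI := IsPGroup.center_nontrivial S.2
  obtain ⟨k, hk⟩ := IsPGroup.iff_card.1 (S.2.to_subgroup (center (S : Subgroup G)))
  have hdvd : 2 ∣ Nat.card (center (S : Subgroup G)) := by
    rw [hk]
    refine dvd_pow_self 2 fun h => ?_
    rw [h, pow_zero] at hk
    have := Finite.one_lt_card (α := center (S : Subgroup G))
    omega
  obtain ⟨⟨z, hzc⟩, hz⟩ := exists_prime_orderOf_dvd_card' (G := center (S : Subgroup G)) 2 hdvd
  refine ⟨S, (z : G), ?_, z.2, fun s hs => congrArg Subtype.val (mem_center_iff.1 hzc ⟨s, hs⟩)⟩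
  rw [Subgroup.orderOf_coe]
  rw [← Subgroup.orderOf_coe] at hz
  exact hz

/-- The centraliser of any involution is abelian when `G` is not solvable. -/
theorem abelian_centralizers (hTI : AllTI G) (hns : ¬ Group.IsSolvable G) :
    (∀ t : G, orderOf t = 2 → IsMulCommutative (centralizer ({t} : Set G))) ∧
      (∀ P : Sylow 2 G, ¬ IsCyclic P) ∧ ∀ P : Sylow 2 G, ¬ (P : Subgroup G).Normal := by
  classical
  haveI : Fact (Nat.Prime 2) := ⟨Nat.prime_two⟩
  have hCN := isCN hTI
  have heven : Even (Nat.card G) := by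
    rw [← Nat.not_odd_iff_even]
    exact fun h => hns (Cfsg.Agent.S0183.result h hCN)
  haveI : Nontrivial G := by
    rw [← not_subsingleton_iff_nontrivial]
    intro hs
    exact hns inferInstance
  obtain ⟨S, z, hz, hzS, hzc⟩ := exists_central_involution heven
  have hz1 : z ≠ 1 := fun h => by rw [h, orderOf_one] at hz; omega
  set A := centralizer ({z} : Set G) with hA
  have hzA : z ∈ A := mem_centralizer_singleton_iff.2 rfl
  haveI hAnil : Group.IsNilpotent A := hCN z hz1
  have hSA : (S : Subgroup G) ≤ A := fun s hs => mem_centralizer_singleton_iff.2 (hzc s hs)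
  set N := normalizer (A : Set G) with hN
  have hAN : A ≤ N := le_normalizer
  have hCy : ∀ y ∈ A, y ≠ 1 → centralizer ({y} : Set G) ≤ N := fun y hy hy1 =>
    centralizer_le hTI hy hy1
  have hti : ∀ g x : G, x ∈ A → x ≠ 1 → g * x * g⁻¹ ∈ A → g ∈ N := fun g x hx hx1 h =>
    mem_normalizer hTI hx hx1 h
  -- elements centralising `S` have their centralisers inside `A`
  have hsylle : ∀ y : G, y ≠ 1 → (S : Subgroup G) ≤ centralizer ({y} : Set G) →
      centralizer ({y} : Set G) ≤ A := by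
    intro y hy1 hS w hw
    haveI := hCN y hy1
    set C := centralizer ({y} : Set G) with hC
    set S' := S.subtype hS with hS'
    haveI hS'n : (S' : Subgroup C).Normal :=
      S'.normal_of_normalizerCondition Group.normalizerCondition_of_isNilpotent
    obtain ⟨M, hM⟩ := exists_right_complement'_of_coprime S'.card_coprime_index
    have hzS' : (⟨z, hS hzS⟩ : C) ∈ (S' : Subgroup C) := by
      rw [hS', Sylow.coe_subtype]; exact hzS
    have hcent : (S' : Subgroup C) ⊔ M ≤ centralizer ({(⟨z, hS hzS⟩ : C)} : Set C) := by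
      refine sup_le (fun s hs => ?_) (fun m hm => ?_)
      · rw [hS', Sylow.coe_subtype, mem_subgroupOf] at hs
        exact mem_centralizer_singleton_iff.2 (Subtype.ext (hzc s hs))
      · refine mem_centralizer_singleton_iff.2 (CfsgLib.FGSA.commute_of_coprime_orderOf m _ ?_).eq
        exact ((hM.symm.index_eq_card ▸ S'.card_coprime_index.symm).coprime_dvd_left
          (M.orderOf_dvd_natCard hm)).coprime_dvd_right ((S' : Subgroup C).orderOf_dvd_natCard hzS')
    have := hcent (hM.sup_eq_top.symm ▸ mem_top (⟨w, hw⟩ : C))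
    exact mem_centralizer_singleton_iff.2
      (congrArg Subtype.val (mem_centralizer_singleton_iff.1 this))
  -- `A` is a Hall subgroup
  have hhall : (Nat.card A).Coprime A.index := by
    refine Nat.coprime_of_dvd fun r hr h1 h2 => ?_
    haveI := Fact.mk hr
    obtain ⟨R₀⟩ : Nonempty (Sylow r A) := inferInstance
    obtain ⟨R, hR⟩ := (R₀.2.map A.subtype).exists_le_sylow
    haveI hR₀n : (R₀ : Subgroup A).Normal :=
      R₀.normal_of_normalizerCondition Group.normalizerCondition_of_isNilpotent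
    obtain ⟨y, hy, hy1⟩ := (Subgroup.bot_or_exists_ne_one _).resolve_left
      (CfsgLib.PGroupBasic.inf_center_ne_bot (R₀ : Subgroup A) (R₀.ne_bot_of_dvd_card h1))
    have hy1' : (y : G) ≠ 1 := fun h => hy1 (Subtype.ext h)
    have hyA : A ≤ centralizer ({(y : G)} : Set G) := fun a ha =>
      mem_centralizer_singleton_iff.2 (congrArg Subtype.val (mem_center_iff.1 hy.2 ⟨a, ha⟩))
    have hCyA := hsylle _ hy1' (hSA.trans hyA)
    haveI : Group.IsNilpotent R := R.2.isNilpotent
    haveI : Nontrivial (R : Subgroup G) := (nontrivial_iff_ne_bot _).2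
      (R.ne_bot_of_dvd_card (h2.trans A.index_dvd_card))
    haveI := IsPGroup.center_nontrivial R.2
    obtain ⟨⟨c, hcc⟩, hc1⟩ := exists_ne (1 : center (R : Subgroup G))
    have hc1' : (c : G) ≠ 1 := fun h => hc1 (Subtype.ext (Subtype.ext h))
    have hcA : (c : G) ∈ A := hCyA (mem_centralizer_singleton_iff.2
      (congrArg Subtype.val (mem_center_iff.1 hcc ⟨(y : G), hR ⟨y, hy.1, rfl⟩⟩)).symm)
    -- `c` is central in `A`
    have hcR₀ : (⟨(c : G), hcA⟩ : A) ∈ (R₀ : Subgroup A) := by
      have hc2 : IsPGroup r (zpowers (⟨(c : G), hcA⟩ : A)) := by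
        obtain ⟨k, hk⟩ := R.2 c
        refine IsPGroup.of_card (n := (orderOf (c : G)).factorization r) ?_
        rw [Nat.card_zpowers, ← orderOf_coe]
        obtain ⟨i, -, hi⟩ := (Nat.dvd_prime_pow hr).1
          (orderOf_dvd_of_pow_eq_one (congrArg Subtype.val hk) : orderOf (c : G) ∣ r ^ k)
        rw [hi, hr.factorization_pow, Finsupp.single_eq_same]
      obtain ⟨R₁, hR₁⟩ := hc2.exists_le_sylow
      haveI := Sylow.unique_of_normal R₀ hR₀n
      rw [Subsingleton.elim R₀ R₁]
      exact hR₁ (mem_zpowers _)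
    obtain ⟨M, hM⟩ := exists_right_complement'_of_coprime R₀.card_coprime_index
    have hcent : (R₀ : Subgroup A) ⊔ M ≤ centralizer ({(⟨(c : G), hcA⟩ : A)} : Set A) := by
      refine sup_le (fun s hs => ?_) (fun m hm => ?_)
      · refine mem_centralizer_singleton_iff.2 (Subtype.ext ?_)
        have h := congrArg Subtype.val (mem_center_iff.1 hcc ⟨(s : G), hR ⟨s, hs, rfl⟩⟩)
        exact h
      · refine mem_centralizer_singleton_iff.2 (CfsgLib.FGSA.commute_of_coprime_orderOf m _ ?_).eq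
        exact ((hM.symm.index_eq_card ▸ R₀.card_coprime_index.symm).coprime_dvd_left
          (M.orderOf_dvd_natCard hm)).coprime_dvd_right ((R₀ : Subgroup A).orderOf_dvd_natCard hcR₀)
    have hAc : A ≤ centralizer ({(c : G)} : Set G) := fun a ha => mem_centralizer_singleton_iff.2
      (congrArg Subtype.val (mem_centralizer_singleton_iff.1
        (hcent (hM.sup_eq_top.symm ▸ mem_top (⟨a, ha⟩ : A)))))
    have hRA : (R : Subgroup G) ≤ A := fun w hw => hsylle _ hc1' (hSA.trans hAc)
      (mem_centralizer_singleton_iff.2 (congrArg Subtype.val (mem_center_iff.1 hcc ⟨w, hw⟩)))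
    exact R.not_dvd_index (h2.trans (index_dvd_of_le hRA))
  have hAidxN : (Nat.card A).Coprime (A.relIndex N) :=
    hhall.coprime_dvd_right (relIndex_dvd_index_of_le hAN)
  haveI hAnN : (A.subgroupOf N).Normal := inferInstance
  -- elements of `N` killed by `|A|` lie in `A`
  have hpowA : ∀ x ∈ N, x ^ Nat.card A = 1 → x ∈ A := by
    intro x hx hxq
    have hxd := (A.subgroupOf N).pow_index_mem ⟨x, hx⟩
    rw [mem_subgroupOf] at hxd
    push_cast at hxd
    have h1 : x ^ (1 : ℤ) ∈ A := by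
      have hb : (1 : ℤ) = (Nat.card A : ℤ) * Nat.gcdA (Nat.card A) (A.relIndex N) +
          (A.relIndex N : ℤ) * Nat.gcdB (Nat.card A) (A.relIndex N) := by
        have := Nat.gcd_eq_gcd_ab (Nat.card A) (A.relIndex N)
        rw [hAidxN] at this
        exact_mod_cast this
      rw [hb, zpow_add, zpow_mul, zpow_mul, zpow_natCast, zpow_natCast, hxq, one_zpow, one_mul]
      exact A.zpow_mem hxd _
    rwa [zpow_one] at h1
  have hodd_rel : Odd (A.relIndex N) := by
    rw [← Nat.not_even_iff_odd, even_iff_two_dvd]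
    exact fun h => S.not_dvd_index (h.trans ((relIndex_dvd_index_of_le hAN).trans (index_dvd_of_le hSA)))
  have hinvA : ∀ t ∈ N, orderOf t = 2 → t ∈ A := by
    intro t ht ht2
    refine hpowA t ht (orderOf_dvd_iff_pow_eq_one.1 ?_)
    rw [ht2]
    exact (hz ▸ Subgroup.orderOf_dvd_natCard A hzA)
  -- centralisers of nontrivial elements of `A` lie in `A`
  have hCyA : ∀ y ∈ A, y ≠ 1 → centralizer ({y} : Set G) ≤ A := by
    intro y hy hy1 w hw
    by_contra hwA
    have hwN := hCy y hy hy1 hw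
    set k := w ^ Nat.card A with hk
    have hk1 : k ≠ 1 := fun h => hwA (hpowA w hwN h)
    have hkc : k ∈ centralizer ({y} : Set G) := pow_mem hw _
    have hzy : z ∈ centralizer ({y} : Set G) :=
      mem_centralizer_singleton_iff.2 (mem_centralizer_singleton_iff.1 hy).symm
    haveI := hCN y hy1
    have hkord : orderOf k ∣ A.relIndex N := by
      refine orderOf_dvd_of_pow_eq_one ?_
      rw [hk, ← pow_mul, mul_comm, pow_mul]
      have hxd := (A.subgroupOf N).pow_index_mem ⟨w, hwN⟩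
      rw [mem_subgroupOf] at hxd
      push_cast at hxd
      exact orderOf_dvd_iff_pow_eq_one.1 (Subgroup.orderOf_dvd_natCard A hxd)
    have hcz : Commute k z := by
      have h := CfsgLib.FGSA.commute_of_coprime_orderOf (⟨k, hkc⟩ : centralizer ({y} : Set G)) ⟨z, hzy⟩ (by
        rw [← orderOf_coe, ← orderOf_coe, hz]
        exact (Nat.coprime_two_right.2 hodd_rel).coprime_dvd_left hkord)
      exact congrArg Subtype.val h.eq
    have hkA : k ∈ A := mem_centralizer_singleton_iff.2 hcz.eq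
    have h3 := Nat.dvd_gcd (Subgroup.orderOf_dvd_natCard A hkA) hkord
    rw [hAidxN] at h3
    exact hk1 (orderOf_eq_one_iff.1 (Nat.dvd_one.1 h3))
  -- a complement of `A` in `N`
  obtain ⟨K₀, hK₀⟩ := exists_right_complement'_of_coprime (N := A.subgroupOf N) (by
    rw [Nat.card_congr (subgroupOfEquivOfLe hAN).toEquiv]; exact hAidxN)
  have hK₀card : Nat.card K₀ = A.relIndex N := hK₀.symm.index_eq_card.symm
  haveI hNsolv : Group.IsSolvable N := by
    haveI : Group.IsSolvable (A.subgroupOf N) := by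
      haveI : Group.IsNilpotent (A.subgroupOf N) :=
        Group.nilpotent_of_mulEquiv (subgroupOfEquivOfLe hAN).symm
      infer_instance
    haveI : Group.IsSolvable K₀ := Cfsg.Agent.S0183.result (hK₀card ▸ hodd_rel)
      (CfsgLib.CN.isCNGroup_subgroup (CfsgLib.CN.isCNGroup_subgroup hCN N) K₀)
    haveI : Group.IsSolvable (N ⧸ A.subgroupOf N) :=
      Group.isSolvable_of_surjective (f := (hK₀.symm.QuotientMulEquiv).symm.toMonoidHom) (MulEquiv.surjective _)
    exact Group.isSolvable_of_ker_le_range (A.subgroupOf N).subtype (QuotientGroup.mk' (A.subgroupOf N))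
      (by rw [QuotientGroup.ker_mk', range_subtype])
  have hNtop : N ≠ ⊤ := by
    intro h
    refine hns ?_
    exact Group.isSolvable_of_surjective (f := N.subtype) fun g => ⟨⟨g, h ▸ mem_top g⟩, rfl⟩
  -- `A` is not self-normalising
  have hAN' : A ≠ N := by
    intro h
    have hfc : Cfsg.IsFrobeniusComplement A := by
      refine ⟨fun hb => hz1 (mem_bot.1 (hb ▸ hzA)), h.symm ▸ hNtop, fun g hg => ?_⟩
      rw [eq_bot_iff]
      rintro x ⟨hx, hx'⟩
      replace hx' : x ∈ MulAut.conj g • A := hx'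
      replace hx : x ∈ A := hx
      rw [mem_pointwise_smul_iff_inv_smul_mem] at hx'
      rw [mem_bot]
      by_contra hx1
      refine hg (h ▸ ?_)
      rw [← inv_inv g]
      refine N.inv_mem (hti g⁻¹ x hx hx1 ?_)
      simpa [MulAut.smul_def] using hx'
    obtain ⟨M, hM, -, hc, -⟩ := CfsgLib.FrobeniusConj.exists_kernel hfc
    haveI := hM
    refine hns ?_
    haveI : Group.IsSolvable M := by
      refine Cfsg.Agent.S0183.result ?_ (CfsgLib.CN.isCNGroup_subgroup hCN M)
      rw [← hc.index_eq_card, ← Nat.not_even_iff_odd, even_iff_two_dvd]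
      exact fun h2 => S.not_dvd_index (h2.trans (index_dvd_of_le hSA))
    haveI : Group.IsSolvable A := inferInstance
    haveI : Group.IsSolvable (G ⧸ M) :=
      Group.isSolvable_of_surjective (f := (hc.symm.QuotientMulEquiv).symm.toMonoidHom) (MulEquiv.surjective _)
    exact Group.isSolvable_of_ker_le_range M.subtype (QuotientGroup.mk' M)
      (by rw [QuotientGroup.ker_mk', range_subtype])
  have hrel1 : 1 < A.relIndex N := by
    rcases hodd_rel with ⟨m, hm⟩
    rcases Nat.eq_zero_or_pos m with rfl | hm'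
    · exact absurd (le_antisymm hAN (relIndex_eq_one.1 hm)) hAN'
    · omega
  -- strong embedding
  have hSE : Cfsg.IsStronglyEmbedded N := by
    refine ⟨hNtop, ?_, fun g hg => ?_⟩
    · rw [even_iff_two_dvd]; exact hz ▸ Subgroup.orderOf_dvd_natCard N (hAN hzA)
    · rw [← Nat.not_even_iff_odd, even_iff_two_dvd]
      intro h
      obtain ⟨⟨t, ht, t', ht', htt⟩, hto⟩ := exists_prime_orderOf_dvd_card'
        (G := ↥(N ⊓ N.map (MulAut.conj g).toMonoidHom)) 2 h
      rw [← orderOf_coe] at hto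
      change orderOf t = 2 at hto
      have htt' : g * t' * g⁻¹ = t := htt
      have ht'o : orderOf t' = 2 := by
        rw [← hto, ← htt', ← MulAut.conj_apply, MulEquiv.orderOf_eq]
      refine hg (hti g t' (hinvA t' ht' ht'o) (fun h => ?_) (htt'.symm ▸ hinvA t ht hto))
      rw [h, orderOf_one] at ht'o; omega
  obtain ⟨g₀, hg₀⟩ : ∃ g : G, g ∉ N := by
    by_contra h
    push Not at h
    exact hNtop (eq_top_iff.2 fun g _ => h g)
  set v₀ := g₀ * z * g₀⁻¹ with hv₀def
  have hv₀ : orderOf v₀ = 2 := by rw [hv₀def, ← MulAut.conj_apply, MulEquiv.orderOf_eq, hz]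
  have hv₀N : v₀ ∉ N := fun h => hg₀ (hti g₀ z hzA hz1 (hinvA v₀ h hv₀))
  have hone : ∀ a b : G, orderOf a = 2 → orderOf b = 2 → IsConj a b :=
    (Cfsg.Agent.S1225.result N hSE v₀ hv₀ hv₀N z z hz (hAN hzA) hz (hAN hzA)).2
  -- involutions of `N` are central in `A`
  have hnormA : ∀ d ∈ N, ∀ x ∈ A, d * x * d⁻¹ ∈ A := fun d hd x hx => (mem_normalizer_iff.1 hd x).1 hx
  have hIcent : ∀ i ∈ N, orderOf i = 2 → ∀ a ∈ A, a * i = i * a := by
    intro i hi hio a ha
    obtain ⟨⟨d, hd, hdi⟩, -⟩ := Cfsg.Agent.S1225.result N hSE v₀ hv₀ hv₀N z i hz (hAN hzA) hio hi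
    have h1 : d⁻¹ * a * d ∈ A := by
      have := hnormA d⁻¹ (N.inv_mem hd.1) a ha
      rwa [inv_inv] at this
    rw [← hdi]
    calc a * (d * z * d⁻¹) = d * ((d⁻¹ * a * d) * z) * d⁻¹ := by group
      _ = d * (z * (d⁻¹ * a * d)) * d⁻¹ := by rw [mem_centralizer_singleton_iff.1 h1]
      _ = d * z * d⁻¹ * a := by group
  -- an element fixing a second point is fixed point free on `A`
  haveI : Fintype (G ⧸ N) := Fintype.ofFinite _
  let o : G ⧸ N := ((1 : G) : G ⧸ N)
  have hstab : MulAction.stabilizer G o = N := MulAction.stabilizer_quotient N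
  have hsmulo : ∀ g : G, g • o = o ↔ g ∈ N := fun g => by
    rw [← MulAction.mem_stabilizer_iff, hstab]
  have hAfix : ∀ a ∈ A, ∀ y : G ⧸ N, y ≠ o → a • y = y → a = 1 := by
    intro a ha y
    induction y using QuotientGroup.induction_on with
    | H g =>
      intro hy hay
      by_contra ha1
      apply hy
      have h' : ((a * g : G) : G ⧸ N) = (g : G ⧸ N) := hay
      rw [QuotientGroup.eq] at h'
      have h'' : g⁻¹ * a * g ∈ N := by
        have := N.inv_mem h'
        rwa [show ((a * g)⁻¹ * g)⁻¹ = g⁻¹ * a * g by group] at this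
      have h3 : g⁻¹ * a * g ∈ A := by
        refine hpowA _ h'' ?_
        have := conj_pow (i := Nat.card A) (a := g⁻¹) (b := a)
        rw [inv_inv] at this
        rw [this, orderOf_dvd_iff_pow_eq_one.1 (Subgroup.orderOf_dvd_natCard A ha)]
        group
      have hgN : g ∈ N := by
        refine hti g _ h3 (fun h => ha1 ?_) (by rw [show g * (g⁻¹ * a * g) * g⁻¹ = a by group]; exact ha)
        calc a = g * (g⁻¹ * a * g) * g⁻¹ := by group
          _ = 1 := by rw [h]; group
      show ((g : G) : G ⧸ N) = ((1 : G) : G ⧸ N)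
      rw [QuotientGroup.eq]
      simpa using hgN
  set e := Nat.card {t : G // orderOf t = 2 ∧ t ∈ N} with he
  let Dy : G ⧸ N → Subgroup G := fun y => MulAction.stabilizer G o ⊓ MulAction.stabilizer G y
  have hDN : ∀ y d, d ∈ Dy y → d ∈ N := fun y d hd => hstab ▸ hd.1
  have hDfpf : ∀ y ≠ o, ∀ d ∈ Dy y, d ≠ 1 → ∀ a ∈ A, d * a = a * d → a = 1 := by
    intro y hy d hd hd1 a ha hda
    by_contra ha1
    exact hd1 (hAfix d (hCyA a ha ha1 (mem_centralizer_singleton_iff.2 hda)) y hy hd.2)
  -- each second point is interchanged with `o` by an involution inverting the stabiliser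
  have hswap : ∀ y ≠ o, ∃ v : G, orderOf v = 2 ∧ v • o = y ∧ v • y = o ∧ Nat.card ↥(Dy y) = e ∧
      ∀ d ∈ Dy y, v * d * v⁻¹ = d⁻¹ := by
    intro y hy
    have hc := Cfsg.Agent.S1224.result N hSE o y hy.symm
    have hpos : 0 < e := by
      haveI : Nonempty {t : G // orderOf t = 2 ∧ t ∈ N} := ⟨⟨z, hz, hAN hzA⟩⟩
      exact Nat.card_pos
    obtain ⟨⟨v, hv, hvo⟩⟩ : Nonempty {i : G // orderOf i = 2 ∧ i • o = y} := by
      rw [← not_isEmpty_iff]
      intro hE
      rw [Nat.card_of_isEmpty] at hc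
      omega
    have hv2 : v * v = 1 := by rw [← pow_two, ← hv, pow_orderOf_eq_one]
    have hv' : v⁻¹ = v := inv_eq_of_mul_eq_one_right hv2
    have hvy : v • y = o := by rw [← hvo, smul_smul, hv2, one_smul]
    have hvN : v ∉ N := fun h => hy (by rw [← hvo]; exact (hsmulo v).2 h)
    have hD : ∀ d, d ∈ Dy y ↔ d ∈ N ⊓ N.map (MulAut.conj v).toMonoidHom := by
      intro d
      simp only [Dy, mem_inf, MulAction.mem_stabilizer_iff, hsmulo]
      refine and_congr_right fun _ => ?_
      constructor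
      · intro h
        refine ⟨v⁻¹ * d * v, ?_, by simp [MulAut.conj_apply]; group⟩
        rw [SetLike.mem_coe, ← hsmulo, mul_smul, mul_smul, hvo, h, hv', hvy]
      · rintro ⟨n, hn, rfl⟩
        simp only [MulEquiv.toMonoidHom_eq_coe, MonoidHom.coe_coe, MulAut.conj_apply]
        rw [mul_smul, mul_smul, hv', hvy, (hsmulo n).2 hn, hvo]
    -- transitive and semiregular on the involutions of `N`
    have hzt : ∀ d ∈ Dy y, orderOf (d * z * d⁻¹) = 2 ∧ d * z * d⁻¹ ∈ N := fun d hd =>
      ⟨by rw [← MulAut.conj_apply, MulEquiv.orderOf_eq, hz], hAN (hnormA d (hDN y d hd) z hzA)⟩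
    let f : Dy y → {t : G // orderOf t = 2 ∧ t ∈ N} := fun d => ⟨(d : G) * z * (d : G)⁻¹, hzt d d.2⟩
    have hf : Function.Bijective f := by
      constructor
      · intro d d' h
        have h' : (d : G) * z * (d : G)⁻¹ = d' * z * (d' : G)⁻¹ := congrArg Subtype.val h
        by_contra hne
        refine hz1 (hDfpf y hy ((d' : G)⁻¹ * d) ((Dy y).mul_mem ((Dy y).inv_mem d'.2) d.2)
          (fun h1 => hne (Subtype.ext (inv_mul_eq_one.1 h1).symm)) z hzA ?_)
        calc (d' : G)⁻¹ * d * z = (d' : G)⁻¹ * ((d : G) * z * (d : G)⁻¹) * d := by group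
          _ = (d' : G)⁻¹ * (d' * z * (d' : G)⁻¹) * d := by rw [h']
          _ = z * ((d' : G)⁻¹ * d) := by group
      · rintro ⟨t, ht, htN⟩
        obtain ⟨⟨d, hd, hdt⟩, -⟩ := Cfsg.Agent.S1225.result N hSE v hv hvN z t hz (hAN hzA) ht htN
        exact ⟨⟨d, (hD d).2 hd⟩, Subtype.ext hdt⟩
    have hcard : Nat.card ↥(Dy y) = e := Nat.card_eq_of_bijective f hf
    refine ⟨v, hv, hvo, hvy, hcard, ?_⟩
    have hmem : ∀ i : {i : G // orderOf i = 2 ∧ i • o = y}, v * i ∈ Dy y := by
      rintro ⟨i, hi, hio⟩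
      have hi2 : i * i = 1 := by rw [← pow_two, ← hi, pow_orderOf_eq_one]
      have hiy : i • y = o := by rw [← hio, smul_smul, hi2, one_smul]
      refine ⟨?_, ?_⟩
      · show (v * i) • o = o; rw [mul_smul, hio, hvy]
      · show (v * i) • y = y; rw [mul_smul, hiy, hvo]
    let g : {i : G // orderOf i = 2 ∧ i • o = y} → Dy y := fun i => ⟨v * i, hmem i⟩
    have hg : Function.Injective g := fun i j h =>
      Subtype.ext (mul_left_cancel (congrArg Subtype.val h))
    have hgs : Function.Surjective g := by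
      haveI := Fintype.ofFinite {i : G // orderOf i = 2 ∧ i • o = y}
      haveI := Fintype.ofFinite ↥(Dy y)
      exact ((Fintype.bijective_iff_injective_and_card g).2 ⟨hg, by
        rw [← Nat.card_eq_fintype_card, ← Nat.card_eq_fintype_card, hcard, hc]⟩).2
    intro d hd
    obtain ⟨⟨i, hi, hio⟩, hgi⟩ := hgs ⟨d, hd⟩
    have hvi : v * i = d := congrArg Subtype.val hgi
    have hi2 : i * i = 1 := by rw [← pow_two, ← hi, pow_orderOf_eq_one]
    rw [← hvi, mul_inv_rev, hv', inv_eq_of_mul_eq_one_right hi2]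
    calc v * (v * i) * v = (v * v) * i * v := by group
      _ = i * v := by rw [hv2, one_mul]
  have hDab : ∀ y ≠ o, ∀ a ∈ Dy y, ∀ b ∈ Dy y, a * b = b * a := by
    intro y hy a ha b hb
    obtain ⟨v, -, -, -, -, hinv⟩ := hswap y hy
    have h1 := hinv (a * b) ((Dy y).mul_mem ha hb)
    rw [show v * (a * b) * v⁻¹ = (v * a * v⁻¹) * (v * b * v⁻¹) by group, hinv a ha, hinv b hb] at h1
    have := congrArg (·⁻¹) h1
    simpa using this.symm
  have hDA : ∀ y ≠ o, ∀ d ∈ Dy y, d ∈ A → d = 1 := fun y hy d hd hdA => hAfix d hdA y hy hd.2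
  obtain ⟨y₀, hy₀⟩ : ∃ y : G ⧸ N, y ≠ o := ⟨(g₀ : G ⧸ N), fun h => hg₀ (by
    have h' : ((g₀ : G) : G ⧸ N) = ((1 : G) : G ⧸ N) := h
    rw [QuotientGroup.eq] at h'
    simpa using h')⟩
  -- the two-point stabilisers complement `A` in `N`
  have hcompl : ∀ y ≠ o, IsComplement' (A.subgroupOf N) ((Dy y).subgroupOf N) ∧ e = A.relIndex N := by
    intro y hy
    obtain ⟨v, -, -, -, hcard, -⟩ := hswap y hy
    have hle : Dy y ≤ N := fun d hd => hDN y d hd
    -- the complement `K₀` is semiregular on the involutions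
    have hK : Nat.card K₀ ≤ e := by
      let f : K₀ → {t : G // orderOf t = 2 ∧ t ∈ N} := fun k =>
        ⟨((k : N) : G) * z * ((k : N) : G)⁻¹,
          by rw [← MulAut.conj_apply, MulEquiv.orderOf_eq, hz], hAN (hnormA _ (k : N).2 z hzA)⟩
      refine Nat.card_le_card_of_injective f fun k k' h => ?_
      have h' : ((k : N) : G) * z * ((k : N) : G)⁻¹ = ((k' : N) : G) * z * ((k' : N) : G)⁻¹ :=
        congrArg Subtype.val h
      have hmemA : ((k' : N) : G)⁻¹ * ((k : N) : G) ∈ A := by
        rw [hA, mem_centralizer_singleton_iff]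
        calc ((k' : N) : G)⁻¹ * ((k : N) : G) * z
            = ((k' : N) : G)⁻¹ * (((k : N) : G) * z * ((k : N) : G)⁻¹) * ((k : N) : G) := by group
          _ = ((k' : N) : G)⁻¹ * (((k' : N) : G) * z * ((k' : N) : G)⁻¹) * ((k : N) : G) := by rw [h']
          _ = z * (((k' : N) : G)⁻¹ * ((k : N) : G)) := by group
      have h1 : ((k' : N)⁻¹ * (k : N)) ∈ A.subgroupOf N ⊓ K₀ :=
        mem_inf.2 ⟨mem_subgroupOf.2 (by push_cast; exact hmemA), K₀.mul_mem (K₀.inv_mem k'.2) k.2⟩
      rw [hK₀.disjoint.eq_bot, mem_bot] at h1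
      exact Subtype.ext (inv_mul_eq_one.1 h1).symm
    have hdis : Disjoint (A.subgroupOf N) ((Dy y).subgroupOf N) := by
      rw [disjoint_iff, eq_bot_iff]
      rintro x ⟨hx1, hx2⟩
      rw [mem_bot]
      exact Subtype.ext (hDA y hy x (mem_subgroupOf.1 hx2) (mem_subgroupOf.1 hx1))
    have hprod : Nat.card A * e ≤ Nat.card N := by
      let f : A × Dy y → N := fun x => ⟨(x.1 : G) * x.2, N.mul_mem (hAN x.1.2) (hle x.2.2)⟩
      have hfi : Function.Injective f := by
        rintro ⟨a, d⟩ ⟨a', d'⟩ h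
        have h' : (a : G) * d = a' * d' := congrArg Subtype.val h
        have h1 : (a' : G)⁻¹ * a = d' * (d : G)⁻¹ := by
          calc (a' : G)⁻¹ * a = (a' : G)⁻¹ * ((a : G) * d) * (d : G)⁻¹ := by group
            _ = (a' : G)⁻¹ * ((a' : G) * d') * (d : G)⁻¹ := by rw [h']
            _ = _ := by group
        have h2 := hDA y hy _ ((Dy y).mul_mem d'.2 ((Dy y).inv_mem d.2))
          (h1 ▸ A.mul_mem (A.inv_mem a'.2) a.2)
        have hd : d' = d := Subtype.ext (mul_inv_eq_one.1 h2)
        subst hd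
        exact Prod.ext (Subtype.ext (mul_right_cancel h')) rfl
      have := Nat.card_le_card_of_injective f hfi
      rwa [Nat.card_prod, hcard] at this
    have hNcard : Nat.card N = Nat.card A * A.relIndex N := by
      rw [relIndex, ← (A.subgroupOf N).card_mul_index, Nat.card_congr (subgroupOfEquivOfLe hAN).toEquiv]
    have hee : e = A.relIndex N := by
      have h1 : e ≤ A.relIndex N := Nat.le_of_mul_le_mul_left (hNcard ▸ hprod) Nat.card_pos
      rw [← hK₀card] at h1 ⊢
      omega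
    refine ⟨isComplement'_of_disjoint_and_mul_eq_univ hdis ?_, hee⟩
    have hc' : Nat.card (A.subgroupOf N) * Nat.card ((Dy y).subgroupOf N) = Nat.card N := by
      rw [Nat.card_congr (subgroupOfEquivOfLe hAN).toEquiv, Nat.card_congr (subgroupOfEquivOfLe hle).toEquiv,
        hcard, hee, hNcard]
    exact (isComplement'_of_card_mul_and_disjoint hc' hdis).mul_eq
  have heq : e = A.relIndex N := (hcompl y₀ hy₀).2
  have he1 : 1 < e := heq ▸ hrel1
  have heodd : Odd e := heq ▸ hodd_rel
  have hdecomp : ∀ y ≠ o, ∀ n ∈ N, ∃ a ∈ A, ∃ d ∈ Dy y, n = a * d := by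
    intro y hy n hn
    have := (hcompl y hy).1.mul_eq
    have hmem : (⟨n, hn⟩ : N) ∈ ((A.subgroupOf N : Set N) * ((Dy y).subgroupOf N : Set N)) := by
      rw [this]; exact Set.mem_univ _
    obtain ⟨a, ha, d, hd, had⟩ := Set.mem_mul.1 hmem
    exact ⟨a, mem_subgroupOf.1 ha, d, mem_subgroupOf.1 hd, (congrArg Subtype.val had).symm⟩
  -- squares in `D` and inverting elements of `N`
  have hsq : ∀ y ≠ o, ∀ d ∈ Dy y, d * d = 1 → d = 1 := by
    intro y hy d hd hdd
    obtain ⟨-, -, -, -, hcard, -⟩ := hswap y hy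
    have h1 : orderOf d ∣ 2 := orderOf_dvd_of_pow_eq_one (by rw [pow_two, hdd])
    have h2 : orderOf d ∣ e := hcard ▸ Subgroup.orderOf_dvd_natCard _ hd
    have h3 := Nat.dvd_gcd h1 h2
    rw [Nat.coprime_two_left.2 heodd] at h3
    exact orderOf_eq_one_iff.1 (Nat.dvd_one.1 h3)
  -- a stabiliser fixes exactly two points
  have htwo : ∀ y ≠ o, ∀ γ ≠ o, Dy y ≤ MulAction.stabilizer G γ → γ = y := by
    intro y hy γ hγ hfix
    by_contra hne
    obtain ⟨i, hi, hio, hiy, hcardy, hinvi⟩ := hswap y hy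
    have heqD : ∀ δ ≠ o, Dy y ≤ MulAction.stabilizer G δ → Dy y = Dy δ := by
      intro δ hδ hfix'
      obtain ⟨-, -, -, -, hcardδ, -⟩ := hswap δ hδ
      exact Subgroup.eq_of_le_of_card_ge (le_inf inf_le_left hfix') (by rw [hcardy, hcardδ])
    obtain ⟨j, hj, hjo, hjγ, -, hinvj⟩ := hswap γ hγ
    have hj2 : j * j = 1 := by rw [← pow_two, ← hj, pow_orderOf_eq_one]
    have hi2 : i * i = 1 := by rw [← pow_two, ← hi, pow_orderOf_eq_one]
    set w := i * j with hw
    have hwγ : w • γ = y := by rw [hw, mul_smul, hjγ, hio]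
    have hwc : ∀ d ∈ Dy y, w * d = d * w := by
      intro d hd
      have h1 := hinvj d ((heqD γ hγ hfix) ▸ hd)
      have h2 := hinvi d⁻¹ ((Dy y).inv_mem hd)
      rw [inv_inv] at h2
      have h3 : w * d * w⁻¹ = d := by
        rw [hw, show i * j * d * (i * j)⁻¹ = i * (j * d * j⁻¹) * i⁻¹ by group, h1, h2]
      exact mul_inv_eq_iff_eq_mul.1 h3
    obtain ⟨d₀, hd₀, hd₀1⟩ : ∃ d ∈ Dy y, d ≠ 1 := by
      haveI : Nontrivial ↥(Dy y) := Finite.one_lt_card_iff_nontrivial.1 (by rw [hcardy]; exact he1)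
      obtain ⟨⟨d, hd⟩, h⟩ := exists_ne (1 : ↥(Dy y))
      exact ⟨d, hd, fun h' => h (Subtype.ext h')⟩
    by_cases hwo : w • o = o
    · -- `w` centralises `D` in `N`, so lies in `D`
      obtain ⟨a, ha, d, hd, had⟩ := hdecomp y hy w ((hsmulo w).1 hwo)
      have ha1 : a = 1 := by
        refine hDfpf y hy d₀ hd₀ hd₀1 a ha ?_
        have h1 := hwc d₀ hd₀
        rw [had] at h1
        have h2 := hDab y hy d hd d₀ hd₀
        calc d₀ * a = (d₀ * (a * d)) * d⁻¹ := by group
          _ = (a * d * d₀) * d⁻¹ := by rw [h1]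
          _ = (a * (d₀ * d)) * d⁻¹ := by rw [mul_assoc a, h2]
          _ = a * d₀ := by group
      rw [had, ha1, one_mul] at hwγ
      have : γ = y := by
        have h3 : d • γ = γ := hfix hd
        exact h3.symm.trans hwγ
      exact hne this
    · set δ := w • o with hδ
      have hfixδ : Dy y ≤ MulAction.stabilizer G δ := fun d hd => by
        show d • (w • o) = w • o
        rw [smul_smul, ← hwc d hd, mul_smul, show d • o = o from hd.1]
      obtain ⟨k, hk, hko, hkδ, -, hinvk⟩ := hswap δ hwo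
      set n := k⁻¹ * w with hn
      have hk2 : k * k = 1 := by rw [← pow_two, ← hk, pow_orderOf_eq_one]
      have hk' : k⁻¹ = k := inv_eq_of_mul_eq_one_right hk2
      have hnN : n ∈ N := (hsmulo n).1 (by rw [hn, mul_smul, ← hδ, hk', hkδ])
      obtain ⟨a, ha, d, hd, had⟩ := hdecomp y hy n hnN
      have h1 : n * d₀ * n⁻¹ = d₀⁻¹ := by
        rw [hn, show k⁻¹ * w * d₀ * (k⁻¹ * w)⁻¹ = k⁻¹ * (w * d₀ * w⁻¹) * k by group,
          mul_inv_eq_iff_eq_mul.2 (hwc d₀ hd₀)]
        have := hinvk d₀ ((heqD δ hwo hfixδ) ▸ hd₀)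
        rw [hk'] at this ⊢
        exact this
      rw [had, show a * d * d₀ * (a * d)⁻¹ = a * (d * d₀ * d⁻¹) * a⁻¹ by group,
        mul_inv_eq_iff_eq_mul.2 (hDab y hy d hd d₀ hd₀)] at h1
      have h2 : d₀⁻¹ * d₀⁻¹ ∈ A := by
        have h3 : a * (d₀ * a⁻¹ * d₀⁻¹) ∈ A :=
          A.mul_mem ha (hnormA d₀ (hDN y d₀ hd₀) a⁻¹ (A.inv_mem ha))
        rwa [show a * (d₀ * a⁻¹ * d₀⁻¹) = (a * d₀ * a⁻¹) * d₀⁻¹ by group, h1] at h3
      have h4 := hDA y hy _ ((Dy y).mul_mem ((Dy y).inv_mem hd₀) ((Dy y).inv_mem hd₀)) h2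
      exact hd₀1 (inv_eq_one.1 (hsq y hy d₀⁻¹ ((Dy y).inv_mem hd₀) h4))
  -- `A` is regular on the points different from `o`
  have hreg : ∀ y z' : G ⧸ N, y ≠ o → z' ≠ o → ∃! u : A, (u : G) • y = z' := by
    intro y y' hy hy'
    have hex : ∃ n ∈ N, n • y = y' := by
      obtain ⟨g, hg⟩ := Cfsg.Agent.S0001.result (A.subgroupOf N)
        (by rw [Nat.card_congr (subgroupOfEquivOfLe hAN).toEquiv]; exact hAidxN)
        (Or.inl inferInstance) ((Dy y).subgroupOf N) ((Dy y').subgroupOf N) (hcompl y hy).1 (hcompl y' hy').1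
      refine ⟨g, g.2, htwo y' hy' ((g : G) • y) ?_ ?_⟩
      · intro h
        apply hy
        have h' := congrArg (fun x => (g : G)⁻¹ • x) h
        simp only [inv_smul_smul] at h'
        rw [h', (hsmulo _).2 (N.inv_mem g.2)]
      · intro d hd
        have hdm : (⟨d, hDN y' d hd⟩ : N) ∈ MulAut.conj g • (Dy y).subgroupOf N := by
          rw [hg]; exact mem_subgroupOf.2 hd
        rw [mem_pointwise_smul_iff_inv_smul_mem, mem_subgroupOf] at hdm
        simp only [MulAut.smul_def, MulAut.conj_inv_apply, Subgroup.coe_mul, Subgroup.coe_inv] at hdm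
        show d • ((g : G) • y) = (g : G) • y
        have h2 : ((g : G)⁻¹ * d * g) • y = y := hdm.2
        rw [mul_smul, mul_smul, inv_smul_eq_iff] at h2
        exact h2
    obtain ⟨n, hn, hny⟩ := hex
    obtain ⟨a, ha, d, hd, had⟩ := hdecomp y hy n hn
    refine ⟨⟨a, ha⟩, ?_, fun u hu => ?_⟩
    · show a • y = y'
      rw [← hny, had, mul_smul, show d • y = y from hd.2]
    · have hay : a • y = y' := by rw [← hny, had, mul_smul, show d • y = y from hd.2]
      have := hAfix (a⁻¹ * (u : G)) (A.mul_mem (A.inv_mem ha) u.2) y hy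
        (by rw [mul_smul, hu, ← hay, inv_smul_smul])
      exact Subtype.ext (inv_mul_eq_one.1 this).symm
  have hdeg : Fintype.card (G ⧸ N) = Nat.card A + 1 := by
    have hbij : Function.Bijective (fun u : A => (⟨(u : G) • y₀, fun h => hy₀ (by
        have h' := congrArg (fun x => (u : G)⁻¹ • x) h
        simp only [inv_smul_smul] at h'
        rw [h', (hsmulo _).2 (N.inv_mem (hAN u.2))])⟩ : {x : G ⧸ N // x ≠ o})) := by
      constructor
      · intro u v h
        obtain ⟨w, -, hw⟩ := hreg y₀ ((u : G) • y₀) hy₀ (fun h' => hy₀ (by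
          have h'' := congrArg (fun x => (u : G)⁻¹ • x) h'
          simp only [inv_smul_smul] at h''
          rw [h'', (hsmulo _).2 (N.inv_mem (hAN u.2))]))
        have h' : (u : G) • y₀ = (v : G) • y₀ := congrArg Subtype.val h
        exact (hw u rfl).trans (hw v h'.symm).symm
      · rintro ⟨x, hx⟩
        obtain ⟨u, hu, -⟩ := hreg y₀ x hy₀ hx
        exact ⟨u, Subtype.ext hu⟩
    have := Nat.card_eq_of_bijective _ hbij
    rw [this, Nat.card_eq_fintype_card, Fintype.card_subtype_compl, Fintype.card_subtype_eq]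
    have : 0 < Fintype.card (G ⧸ N) := Fintype.card_pos
    omega
  have h2t : MulAction.IsMultiplyPretransitive G (G ⧸ N) 2 := by
    refine MulAction.is_two_pretransitive_iff.2 ?_
    intro a b c f hab hcf
    obtain ⟨g₁, h₁⟩ := MulAction.exists_smul_eq G a o
    obtain ⟨g₂, h₂⟩ := MulAction.exists_smul_eq G c o
    have hb : g₁ • b ≠ o := fun h => hab (smul_left_cancel g₁ (h₁.trans h.symm))
    have hf : g₂ • f ≠ o := fun h => hcf (smul_left_cancel g₂ (h₂.trans h.symm))
    obtain ⟨u, hu, -⟩ := hreg _ _ hb hf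
    refine ⟨g₂⁻¹ * (u * g₁), ?_, ?_⟩
    · rw [mul_smul, mul_smul, h₁, (hsmulo _).2 (hAN u.2), ← h₂, inv_smul_smul]
    · rw [mul_smul, mul_smul, hu, inv_smul_smul]
  have h3 : ∀ g : G, ∀ a b c : G ⧸ N, a ≠ b → b ≠ c → a ≠ c → g • a = a → g • b = b → g • c = c →
      g = 1 := by
    intro g a b c hab hbc hac ha hb hc
    obtain ⟨g₁, h₁⟩ := MulAction.exists_smul_eq G a o
    set h := g₁ * g * g₁⁻¹ with hh
    have fix : ∀ w : G ⧸ N, g • w = w → h • (g₁ • w) = g₁ • w := fun w hw => by
      rw [hh, smul_smul, inv_mul_cancel_right, mul_smul, hw]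
    have ho : h • o = o := h₁ ▸ fix a ha
    have hb' : g₁ • b ≠ o := fun h' => hab (smul_left_cancel g₁ (h₁.trans h'.symm))
    have hc' : g₁ • c ≠ o := fun h' => hac (smul_left_cancel g₁ (h₁.trans h'.symm))
    obtain ⟨u, hu, huu⟩ := hreg _ _ hb' hc'
    have hu' : h * u * h⁻¹ ∈ A := hnormA h ((hsmulo h).1 ho) u u.2
    have heq' : (⟨h * u * h⁻¹, hu'⟩ : A) = u := by
      refine huu _ ?_
      show (h * (u : G) * h⁻¹) • (g₁ • b) = g₁ • c
      have hbi : h⁻¹ • (g₁ • b) = g₁ • b := inv_smul_eq_iff.2 (fix b hb).symm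
      rw [mul_smul, mul_smul, hbi, hu, fix c hc]
    have hcomm : h * u = u * h := by
      have := congrArg Subtype.val heq'
      calc h * (u : G) = (h * u * h⁻¹) * h := by group
        _ = u * h := by rw [show h * (u : G) * h⁻¹ = u from this]
    have hu1 : (u : G) ≠ 1 := by
      intro hu1
      rw [hu1, one_smul] at hu
      exact hbc (smul_left_cancel g₁ hu)
    have hh1 : h = 1 := by
      by_contra h1
      exact hu1 (hDfpf _ hb' h ⟨ho, fix b hb⟩ h1 u u.2 hcomm)
    rw [hh] at hh1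
    calc g = g₁⁻¹ * (g₁ * g * g₁⁻¹) * g₁ := by group
      _ = 1 := by rw [hh1]; group
  have hA2 : 2 ≤ Nat.card A := by
    rw [← hz]; exact Nat.le_of_dvd Nat.card_pos (Subgroup.orderOf_dvd_natCard A hzA)
  have hker : ∀ g : G, (∀ x : G ⧸ N, g • x = x) → g = 1 := by
    intro g hg
    obtain ⟨y₁, hy₁o, hy₁⟩ : ∃ y₁, y₁ ≠ o ∧ y₁ ≠ y₀ := by
      by_contra h
      push Not at h
      have hle : (Finset.univ : Finset (G ⧸ N)) ⊆ {o, y₀} := by
        intro x _
        simp only [Finset.mem_insert, Finset.mem_singleton]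
        by_cases hx : x = o
        · exact Or.inl hx
        · exact Or.inr (h x hx)
      have := (Finset.card_le_card hle).trans Finset.card_le_two
      rw [Finset.card_univ, hdeg] at this
      omega
    exact h3 g o y₀ y₁ hy₀.symm hy₁.symm hy₁o.symm (hg o) (hg y₀) (hg y₁)
  have hnoreg : ∀ M : Subgroup G, M.Normal → MulAction.IsPretransitive M (G ⧸ N) →
      ∃ a : G ⧸ N, MulAction.stabilizer M a ≠ ⊥ := by
    intro M hM hMt
    by_contra hall
    push Not at hall
    haveI := hM; haveI := hMt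
    refine hns ?_
    have hMc : Nat.card M = Nat.card A + 1 := by
      have h1 := MulAction.index_stabilizer_of_transitive M o
      rw [hall o, index_bot, Nat.card_eq_fintype_card (α := G ⧸ N), hdeg] at h1
      exact h1
    haveI : Group.IsSolvable M := by
      refine Cfsg.Agent.S0183.result ?_ (CfsgLib.CN.isCNGroup_subgroup hCN M)
      rw [hMc]
      exact (even_iff_two_dvd.2 (hz ▸ Subgroup.orderOf_dvd_natCard A hzA)).add_one
    haveI : Group.IsSolvable (G ⧸ M) := by
      refine Group.isSolvable_of_surjective (f := (QuotientGroup.mk' M).comp N.subtype) fun q => ?_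
      obtain ⟨g, rfl⟩ := QuotientGroup.mk'_surjective M q
      obtain ⟨m, hm⟩ := MulAction.exists_smul_eq M o (g • o)
      have hm' : (m : G) • o = g • o := hm
      refine ⟨⟨(m : G)⁻¹ * g, (hsmulo _).1 (by rw [mul_smul, ← hm', inv_smul_smul])⟩, ?_⟩
      simp [(QuotientGroup.eq_one_iff (m : G)).2 m.2]
    exact Group.isSolvable_of_ker_le_range M.subtype (QuotientGroup.mk' M)
      (by rw [QuotientGroup.ker_mk', range_subtype])
  obtain ⟨-, -, -, -, hcard₀, -⟩ := hswap y₀ hy₀
  obtain ⟨d₁, hd₁, hd₁1⟩ : ∃ d ∈ Dy y₀, d ≠ 1 := by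
    haveI : Nontrivial ↥(Dy y₀) := Finite.one_lt_card_iff_nontrivial.1 (by rw [hcard₀]; exact he1)
    obtain ⟨⟨d, hd⟩, h⟩ := exists_ne (1 : ↥(Dy y₀))
    exact ⟨d, hd, fun h' => h (Subtype.ext h')⟩
  have hZ : Cfsg.IsZassenhausGroup G (G ⧸ N) :=
    ⟨⟨fun {g₁ g₂} h => by
      have := hker (g₂⁻¹ * g₁) fun x => by rw [mul_smul, h x, inv_smul_smul]
      exact (inv_mul_eq_one.1 this).symm⟩, h2t, h3,
      ⟨d₁, hd₁1, o, y₀, hy₀.symm, hd₁.1, hd₁.2⟩, hnoreg⟩
  haveI hsimple : IsSimpleGroup G := Cfsg.Agent.S0338.result hZ (by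
    rw [hdeg]
    exact (even_iff_two_dvd.2 (hz ▸ Subgroup.orderOf_dvd_natCard A hzA)).add_one)
  have hpp : IsPrimePow (Nat.card A) := by
    have := Cfsg.Agent.S0346.result hZ
    rwa [hdeg, Nat.add_sub_cancel] at this
  have hA2g : IsPGroup 2 A := by
    obtain ⟨p, k, hp, hk, hpk⟩ := hpp
    have h2 : 2 ∣ p ^ k := hpk ▸ hz ▸ Subgroup.orderOf_dvd_natCard A hzA
    have hp2 : 2 = p := (Nat.prime_dvd_prime_iff_eq Nat.prime_two hp.nat_prime).1
      (Nat.prime_two.dvd_of_dvd_pow h2)
    exact IsPGroup.of_card (p := 2) (n := k) (by rw [← hpk, hp2])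
  -- `A` is abelian
  have hAab : IsMulCommutative A := by
    by_contra hna
    obtain ⟨u, hu, v, hv, huv⟩ : ∃ u ∈ A, ∃ v ∈ A, u * v ≠ v * u := by
      by_contra h
      push Not at h
      exact hna ⟨⟨fun a b => Subtype.ext (h a a.2 b b.2)⟩⟩
    obtain ⟨n, -, -, hdeg', -, hde, -⟩ := Cfsg.Agent.S1147.result hZ hy₀.symm A
      (by rw [hstab]; exact hAN)
      (fun h hh a ha => hnormA h (hstab ▸ hh) a ha) hreg hA2g ⟨u, hu, v, hv, huv⟩
    have hde' : e = 2 ^ n - 1 := hcard₀.symm.trans hde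
    have hAc : Nat.card A = (e + 1) * (e + 1) := by
      rw [Nat.card_eq_fintype_card (α := G ⧸ N), hdeg] at hdeg'
      rw [show 2 * n = n + n by ring, pow_add] at hdeg'
      have : 1 ≤ 2 ^ n := Nat.one_le_two_pow
      rw [show e + 1 = 2 ^ n by omega]
      omega
    obtain ⟨y, hyc⟩ : ∃ y : A, y ∉ center A := by
      by_contra h
      push Not at h
      exact hna ⟨⟨fun a b => mem_center_iff.1 (h b) a⟩⟩
    have hy1 : (y : G) ≠ 1 := fun h => hyc (by
      rw [show y = 1 from Subtype.ext h]; exact one_mem _)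
    set C := centralizer ({(y : G)} : Set G) with hC
    have hCA : C ≤ A := hCyA y y.2 hy1
    -- central involutions
    have hIC : ∀ i ∈ N, orderOf i = 2 → i ∈ C := fun i hi hio =>
      mem_centralizer_singleton_iff.2 (hIcent i hi hio y y.2).symm
    have hconjC : ∀ d ∈ Dy y₀, d * (y : G) * d⁻¹ ∈ C := by
      intro d hd
      have hdN := hDN y₀ d hd
      have hmem : d * z * d⁻¹ ∈ C := hIC _ (hAN (hnormA d hdN z hzA))
        (by rw [← MulAut.conj_apply, MulEquiv.orderOf_eq, hz])
      have hdnorm := mem_normalizer hTI (hIC z (hAN hzA) hz) hz1 hmem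
      exact (mem_normalizer_iff.1 hdnorm _).1 (mem_centralizer_singleton_iff.2 rfl)
    let I := Option {t : G // orderOf t = 2 ∧ t ∈ N}
    let ι : I → G := fun x => x.elim 1 (fun t => (t : G))
    have hιA : ∀ x : I, ∀ a ∈ A, a * ι x = ι x * a := by
      rintro (_ | ⟨t, ht, htN⟩) a ha
      · simp [ι]
      · exact hIcent t htN ht a ha
    have hιmem : ∀ x : I, ι x ∈ A ∧ ι x ∈ C := by
      rintro (_ | ⟨t, ht, htN⟩)
      · exact ⟨one_mem _, one_mem _⟩
      · exact ⟨hinvA t htN ht, hIC t htN ht⟩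
    have hιinj : Function.Injective ι := by
      rintro (_ | ⟨t, ht, htN⟩) (_ | ⟨t', ht', htN'⟩) h
      · rfl
      · simp only [ι, Option.elim] at h; rw [← h, orderOf_one] at ht'; omega
      · simp only [ι, Option.elim] at h; rw [h, orderOf_one] at ht; omega
      · simp only [ι, Option.elim] at h; subst h; rfl
    let κ : Option (Dy y₀) → G := fun x => x.elim 1 (fun d => (d : G) * y * (d : G)⁻¹)
    have hκmem : ∀ x, κ x ∈ C := by
      rintro (_ | ⟨d, hd⟩)
      · exact one_mem _
      · exact hconjC d hd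
    have hκA : ∀ x, κ x ∈ A := fun x => hCA (hκmem x)
    -- two of the conjugates differ by a central element only when equal
    have hκ : ∀ x x', (∀ a ∈ A, a * ((κ x)⁻¹ * κ x') = ((κ x)⁻¹ * κ x') * a) → x = x' := by
      have hcen : ∀ c : G, c ∈ A → (∀ a ∈ A, a * c = c * a) → ∀ d ∈ N, ∀ a ∈ A,
          a * (d * c * d⁻¹) = d * c * d⁻¹ * a := by
        intro c hc hcc d hd a ha
        have h1 : d⁻¹ * a * d ∈ A := by
          have := hnormA d⁻¹ (N.inv_mem hd) a ha
          rwa [inv_inv] at this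
        calc a * (d * c * d⁻¹) = d * ((d⁻¹ * a * d) * c) * d⁻¹ := by group
          _ = d * (c * (d⁻¹ * a * d)) * d⁻¹ := by rw [hcc _ h1]
          _ = d * c * d⁻¹ * a := by group
      have hsingle : ∀ d ∈ Dy y₀, ¬ ∀ a ∈ A, a * (d * (y : G) * d⁻¹) = d * (y : G) * d⁻¹ * a := by
        intro d hd h
        apply hyc
        rw [mem_center_iff]
        intro a
        have h' := hcen _ (hnormA d (hDN y₀ d hd) y y.2) h d⁻¹ (N.inv_mem (hDN y₀ d hd)) a a.2
        rw [show d⁻¹ * (d * (y : G) * d⁻¹) * d⁻¹⁻¹ = y by group] at h'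
        exact Subtype.ext h'
      have hpair : ∀ d ∈ Dy y₀, ∀ d' ∈ Dy y₀,
          (∀ a ∈ A, a * ((d * (y : G) * d⁻¹)⁻¹ * (d' * y * d'⁻¹)) =
            ((d * (y : G) * d⁻¹)⁻¹ * (d' * y * d'⁻¹)) * a) → d = d' := by
        intro d hd d' hd' h
        by_contra hne
        set c := d⁻¹ * d' with hc
        have hcD : c ∈ Dy y₀ := (Dy y₀).mul_mem ((Dy y₀).inv_mem hd) hd'
        have hc1 : c ≠ 1 := fun h1 => hne (inv_mul_eq_one.1 h1)
        have hcN := hDN y₀ c hcD
        let ψ : MulAut A :=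
          { toFun := fun a => ⟨c * a * c⁻¹, hnormA c hcN a a.2⟩
            invFun := fun a => ⟨c⁻¹ * a * c, by
              have := hnormA c⁻¹ (N.inv_mem hcN) a a.2
              rwa [inv_inv] at this⟩
            left_inv := fun a => Subtype.ext (by show c⁻¹ * (c * (a : G) * c⁻¹) * c = a; group)
            right_inv := fun a => Subtype.ext (by show c * (c⁻¹ * (a : G) * c) * c⁻¹ = a; group)
            map_mul' := fun a b => Subtype.ext (by
              show c * ((a : G) * b) * c⁻¹ = c * a * c⁻¹ * (c * b * c⁻¹); group) }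
        apply hyc
        have hz' : ∀ a ∈ A, a * ((y : G)⁻¹ * (c * y * c⁻¹)) = ((y : G)⁻¹ * (c * y * c⁻¹)) * a := by
          intro a ha
          have h' := hcen _ (A.mul_mem (A.inv_mem (hnormA d (hDN y₀ d hd) y y.2))
            (hnormA d' (hDN y₀ d' hd') y y.2)) h d⁻¹ (N.inv_mem (hDN y₀ d hd)) a ha
          rw [show d⁻¹ * ((d * (y : G) * d⁻¹)⁻¹ * (d' * y * d'⁻¹)) * d⁻¹⁻¹ =
            (y : G)⁻¹ * (c * y * c⁻¹) by rw [hc]; group] at h'
          exact h'
        refine not_mem_center_of_fpf ψ ?_ (z := y⁻¹ * ψ y) ?_ (by group)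
        · intro a ha
          have h' : c * (a : G) * c⁻¹ = a := congrArg Subtype.val ha
          exact Subtype.ext (hDfpf y₀ hy₀ c hcD hc1 a a.2 (mul_inv_eq_iff_eq_mul.1 h'))
        · rw [mem_center_iff]
          intro a
          exact Subtype.ext (hz' a a.2)
      rintro (_ | ⟨d, hd⟩) (_ | ⟨d', hd'⟩) h
      · rfl
      · exact absurd (fun a ha => by simpa [κ] using h a ha) (hsingle d' hd')
      · refine absurd (fun a ha => ?_) (hsingle d hd)
        have h1 : a * (d * (y : G) * d⁻¹)⁻¹ = (d * (y : G) * d⁻¹)⁻¹ * a := by simpa [κ] using h a ha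
        have h2 : Commute a (d * (y : G) * d⁻¹)⁻¹ := h1
        have h3 := h2.inv_right
        rw [inv_inv] at h3
        exact h3.eq
      · exact congrArg some (Subtype.ext (hpair d hd d' hd' (fun a ha => h a ha)))
    let Φ : I × Option (Dy y₀) → C := fun x => ⟨ι x.1 * κ x.2, mul_mem (hιmem x.1).2 (hκmem x.2)⟩
    have hΦ : Function.Injective Φ := by
      rintro ⟨i, x⟩ ⟨i', x'⟩ h
      have h' : ι i * κ x = ι i' * κ x' := congrArg Subtype.val h
      have hxx : x = x' := by
        refine hκ x x' fun a ha => ?_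
        have hcentral : (κ x)⁻¹ * κ x' = ι i * (ι i')⁻¹ := by
          have h2 : κ x' = (ι i')⁻¹ * ι i * κ x := by
            rw [mul_assoc, h']; group
          rw [h2]
          have c1 : Commute (κ x) (ι i) := hιA i _ (hκA x)
          have c2 : Commute (κ x) (ι i') := hιA i' _ (hκA x)
          have c3 : Commute (ι i') (ι i) := hιA i _ (hιmem i').1
          calc (κ x)⁻¹ * ((ι i')⁻¹ * ι i * κ x)
              = (κ x)⁻¹ * (κ x * ((ι i')⁻¹ * ι i)) := by
                rw [(c2.inv_right.mul_right c1).eq]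
            _ = (ι i')⁻¹ * ι i := by group
            _ = ι i * (ι i')⁻¹ := c3.inv_left.eq
        rw [hcentral]
        exact (Commute.mul_right (hιA i a ha) (Commute.inv_right (hιA i' a ha))).eq
      subst hxx
      exact Prod.ext (hιinj (mul_right_cancel h')) rfl
    have hle := Nat.card_le_card_of_injective Φ hΦ
    rw [Nat.card_prod] at hle
    have hI : Nat.card I = e + 1 := by rw [Finite.card_option]
    have hK : Nat.card (Option (Dy y₀)) = e + 1 := by rw [Finite.card_option, hcard₀]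
    rw [hI, hK, ← hAc] at hle
    have hCeq : C = A := Subgroup.eq_of_le_of_card_ge hCA hle
    apply hyc
    rw [mem_center_iff]
    intro a
    have h5 : (a : G) ∈ C := hCeq.symm ▸ a.2
    exact Subtype.ext (mem_centralizer_singleton_iff.1 h5)
  refine ⟨fun t ht => ?_, ?_, ?_⟩
  · obtain ⟨c, rfl⟩ := isConj_iff.1 (hone z t hz ht)
    refine ⟨⟨fun a b => Subtype.ext ?_⟩⟩
    have key : ∀ x ∈ centralizer ({c * z * c⁻¹} : Set G), c⁻¹ * x * c ∈ A := by
      intro x hx
      rw [mem_centralizer_singleton_iff] at hx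
      rw [hA, mem_centralizer_singleton_iff]
      calc c⁻¹ * x * c * z = c⁻¹ * (x * (c * z * c⁻¹)) * c := by group
        _ = c⁻¹ * ((c * z * c⁻¹) * x) * c := by rw [hx]
        _ = z * (c⁻¹ * x * c) := by group
    have := setLike_mul_comm (S := Subgroup G) (key a a.2) (key b b.2)
    show (a : G) * b = b * a
    calc (a : G) * b = c * ((c⁻¹ * a * c) * (c⁻¹ * b * c)) * c⁻¹ := by group
      _ = c * ((c⁻¹ * b * c) * (c⁻¹ * a * c)) * c⁻¹ := by rw [this]
      _ = b * a := by group
  · intro P hP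
    -- a cyclic Sylow subgroup has one involution, so `e = 1`
    obtain ⟨g, hg⟩ := MulAction.exists_smul_eq G P S
    haveI := hP
    haveI hScyc : IsCyclic (S : Subgroup G) := by
      rw [← hg]
      exact isCyclic_of_surjective _ (P.equivSMul g).surjective
    have hAS : (S : Subgroup G) = A := S.is_maximal' hA2g hSA |>.symm
    have hle : e ≤ 1 := by
      rw [he, Finite.card_le_one_iff_subsingleton]
      refine ⟨?_⟩
      rintro ⟨t, ht, htN⟩ ⟨t', ht', htN'⟩
      refine Subtype.ext ?_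
      have h1 : t ∈ (S : Subgroup G) := hAS ▸ hinvA t htN ht
      have h2 : t' ∈ (S : Subgroup G) := hAS ▸ hinvA t' htN' ht'
      have h3 := CfsgLib.FpfComplement.mem_zpowers_of_cyclic (u := (⟨t, h1⟩ : (S : Subgroup G)))
        (v := ⟨t', h2⟩) (by rw [← orderOf_coe, ← orderOf_coe, ht, ht'])
      obtain ⟨k, hk⟩ := mem_zpowers_iff.1 h3
      have hk' : t' ^ k = t := congrArg Subtype.val hk
      rw [← zpow_mod_orderOf, ht'] at hk'
      rcases Int.emod_two_eq_zero_or_one k with h0 | h0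
      · rw [show ((2 : ℕ) : ℤ) = 2 by norm_num, h0, zpow_zero] at hk'
        rw [← hk', orderOf_one] at ht; omega
      · rw [show ((2 : ℕ) : ℤ) = 2 by norm_num, h0, zpow_one] at hk'
        exact hk'.symm
    omega
  · intro P hP
    have hSn : (S : Subgroup G).Normal := by
      haveI := hP
      haveI : Subsingleton (Sylow 2 G) := by
        haveI := Sylow.unique_of_normal P hP; infer_instance
      rwa [Subsingleton.elim S P]
    exact hv₀N (hAN (hSA (hSn.conj_mem z hzS g₀)))

end CfsgLib.TICent
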